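import Mathlib.Algebra.Homology.DerivedCategory.Ext.ExactSequences
import Mathlib.Algebra.Homology.DerivedCategory.FullyFaithful
import Mathlib.Algebra.Homology.DerivedCategory.TStructure
import Mathlib.CategoryTheory.Abelian.Refinements

/-!
Every element of `Ext¹(E, P)` is the class of an extension.
-/

set_option linter.style.haveILetI false

universe w' w v u

open CategoryTheory CategoryTheory.Limits Pretriangulated DerivedCategory

namespace GrothLib.ExtReal

variable {C : Type u} [Category.{v} C] [Abelian C] [HasExt.{w} C] {E P : C}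

theorem exists_shortExact (ξ : Abelian.Ext.{w} E P 1) :
    ∃ (X : C) (j : P ⟶ X) (g : X ⟶ E) (wz : j ≫ g = 0) (h : (ShortComplex.mk j g wz).ShortExact),
      h.extClass = ξ := by
  letI : HasDerivedCategory C := HasDerivedCategory.standard C
  let SE := (singleFunctor C 0).obj E
  let SP := (singleFunctor C 0).obj P
  let δ : SE ⟶ SP⟦(1 : ℤ)⟧ := ξ.hom
  obtain ⟨Z, f, g₀, mem⟩ := distinguished_cocone_triangle₂ δ
  have hzero : ∀ i : ℤ, i ≠ 0 → IsZero ((homologyFunctor C i).obj Z) := by
    intro i hi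
    have hex := (homologyFunctor C i).map_distinguished_exact _ mem
    have hP : IsZero ((homologyFunctor C i).obj SP) := by
      rcases lt_or_gt_of_ne hi with h | h
      · exact isZero_of_isGE SP 0 i h
      · exact isZero_of_isLE SP 0 i h
    have hE : IsZero ((homologyFunctor C i).obj SE) := by
      rcases lt_or_gt_of_ne hi with h | h
      · exact isZero_of_isGE SE 0 i h
      · exact isZero_of_isLE SE 0 i h
    exact hex.isZero_of_both_zeros (hP.eq_of_src _ _) (hE.eq_of_tgt _ _)
  haveI : Z.IsGE 0 := (isGE_iff Z 0).mpr fun i hi => hzero i hi.ne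
  haveI : Z.IsLE 0 := (isLE_iff Z 0).mpr fun i hi => hzero i hi.ne'
  obtain ⟨X, ⟨e⟩⟩ := exists_iso_singleFunctor_obj_of_isGE_of_isLE Z 0
  let S := singleFunctor C 0
  let j : P ⟶ X := S.preimage (f ≫ e.hom)
  let g : X ⟶ E := S.preimage (e.inv ≫ g₀)
  let T : Triangle (DerivedCategory C) := Triangle.mk (S.map j) (S.map g) δ
  have hT : T ∈ distTriang (DerivedCategory C) := by
    refine isomorphic_distinguished _ mem _ (Triangle.isoMk _ _ (Iso.refl _) e.symm (Iso.refl _) ?_ ?_ ?_)
    · show S.map j ≫ e.inv = 𝟙 SP ≫ f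
      rw [Functor.map_preimage, Category.assoc, e.hom_inv_id, Category.comp_id, Category.id_comp]
    · show S.map g ≫ 𝟙 SE = e.inv ≫ g₀
      rw [Functor.map_preimage, Category.comp_id]
    · show δ ≫ (𝟙 SP)⟦(1 : ℤ)⟧' = 𝟙 SE ≫ δ
      rw [CategoryTheory.Functor.map_id, Category.comp_id, Category.id_comp]
  have wz : j ≫ g = 0 := S.map_injective (by
    rw [Functor.map_comp, Functor.map_zero]
    exact comp_distTriang_mor_zero₁₂ T hT)
  haveI : Mono j := Preadditive.mono_of_cancel_zero _ fun {U} t ht => S.map_injective (by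
    rw [Functor.map_zero]
    obtain ⟨s, hs⟩ := Triangle.coyoneda_exact₂ _ (inv_rot_of_distTriang _ hT) (S.map t) (by
      show S.map t ≫ S.map j = 0
      rw [← Functor.map_comp, ht, Functor.map_zero])
    have : s = 0 :=
      haveI : (SE⟦(-1 : ℤ)⟧).IsGE 1 := TStructure.t.isGE_shift SE 0 (-1) 1 (by norm_num)
      TStructure.t.zero (Y := SE⟦(-1 : ℤ)⟧) s 0 1
    rw [hs, this, zero_comp]
    rfl)
  haveI : Epi g := Preadditive.epi_of_cancel_zero _ fun {U} t ht => S.map_injective (by
    rw [Functor.map_zero]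
    obtain ⟨s, hs⟩ := Triangle.yoneda_exact₃ T hT (S.map t) (by
      show S.map g ≫ S.map t = 0
      rw [← Functor.map_comp, ht, Functor.map_zero])
    have : s = 0 :=
      haveI : (SP⟦(1 : ℤ)⟧).IsLE (-1) := TStructure.t.isLE_shift SP 0 1 (-1) (by norm_num)
      TStructure.t.zero (X := SP⟦(1 : ℤ)⟧) s (-1) 0
    rw [hs, this, comp_zero]
    rfl)
  have hex : (ShortComplex.mk j g wz).Exact := by
    rw [ShortComplex.exact_iff_exact_up_to_refinements]
    intro U t ht
    obtain ⟨s, hs⟩ := Triangle.coyoneda_exact₂ T hT (S.map t) (by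
      show S.map t ≫ S.map g = 0
      rw [← Functor.map_comp, ht, Functor.map_zero])
    refine ⟨U, 𝟙 U, inferInstance, S.preimage s, ?_⟩
    rw [Category.id_comp]
    apply S.map_injective
    rw [Functor.map_comp, S.map_preimage s]
    exact hs
  let h : (ShortComplex.mk j g wz).ShortExact :=
    { exact := hex, mono_f := inferInstanceAs (Mono j), epi_g := inferInstanceAs (Epi g) }
  refine ⟨X, j, g, wz, h, Abelian.Ext.ext ?_⟩
  rw [ShortComplex.ShortExact.extClass_hom]
  obtain ⟨θ, hθ₁, hθ₂⟩ := complete_distinguished_triangle_morphism h.singleTriangle T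
    h.singleTriangle_distinguished hT (𝟙 _) (𝟙 _) (by
      show S.map j ≫ 𝟙 _ = 𝟙 _ ≫ S.map j
      simp)
  have hθ : S.preimage θ = 𝟙 E := by
    rw [← cancel_epi g, Category.comp_id]
    apply S.map_injective
    rw [Functor.map_comp, S.map_preimage θ]
    exact hθ₁.trans (Category.id_comp _)
  have hθ' : θ = 𝟙 _ := by
    rw [← S.map_preimage θ]
    exact (congrArg S.map hθ).trans (S.map_id E)
  have h3 : h.singleδ ≫ (𝟙 SP)⟦(1 : ℤ)⟧' = θ ≫ δ := hθ₂
  rw [hθ', CategoryTheory.Functor.map_id, Category.comp_id] at h3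
  exact h3.trans (Category.id_comp δ)

end GrothLib.ExtReal
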